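import Mathlib
import Cfsg.Prelude.Def_Blocks

/-!
# Project IP26 = statement S4463 (Isaacs 12.26 / Isaacs–Passman): definitions

`IsMaxDeg G b` : `b` is the largest irreducible character degree of `G` (exactly the hypothesis
of S4463).  `CE G b` : `G` is a counterexample to "Lemma B" for the bound `b`: every subgroup of
index `≤ b²` still has an irreducible character of degree `b`.
-/

set_option autoImplicit false

namespace Cfsg.Agent.Lib.Helper58.IP26

open Cfsg

universe u

/-- `b` is the largest irreducible character degree of `G`. -/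
def IsMaxDeg (G : Type u) [Group G] (b : ℕ) : Prop :=
  IsGreatest {d : ℕ | ∃ χ : IrrCharacter G, charDegree (χ : G → ℂ) = d} b

/-- `G` is a counterexample to Lemma B: every subgroup of index at most `b²` has an irreducible
character of degree `b`. -/
def CE (G : Type u) [Group G] (b : ℕ) : Prop :=
  ∀ H : Subgroup G, H.index ≤ b ^ 2 → ∃ ψ : IrrCharacter H, charDegree (ψ : H → ℂ) = b

/-- The conclusion of S4463 for `G` and the bound `b`. -/
def HasAbelian (G : Type u) [Group G] (b : ℕ) : Prop :=
  ∃ A : Subgroup G, (∀ x ∈ A, ∀ y ∈ A, x * y = y * x) ∧ A.index ≤ (Nat.factorial b) ^ 2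

theorem IsMaxDeg.le {G : Type u} [Group G] {b : ℕ} (hb : IsMaxDeg G b) (χ : IrrCharacter G) :
    charDegree (χ : G → ℂ) ≤ b :=
  hb.2 ⟨χ, rfl⟩

theorem IsMaxDeg.exists {G : Type u} [Group G] {b : ℕ} (hb : IsMaxDeg G b) :
    ∃ χ : IrrCharacter G, charDegree (χ : G → ℂ) = b :=
  hb.1

end Cfsg.Agent.Lib.Helper58.IP26
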