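import Mathlib
import Cfsg.Agent.Lib.Helper58.IP26.Defs
import Cfsg.Agent.Lib.Helper80.CharBasic
import Cfsg.Agent.Lib.Helper80.CharOrth

/-!
# IP26: basic facts on `IsMaxDeg`
-/

set_option autoImplicit false

namespace Cfsg.Agent.Lib.Helper58.IP26

open Cfsg

universe u

/-- every finite group has a largest irreducible character degree -/
theorem exists_isMaxDeg (H : Type u) [Group H] [Finite H] : ∃ b' : ℕ, IsMaxDeg H b' := by
  classical
  have hfin : Finite (IrrCharacter H) := Cfsg.Agent.Lib.Helper80.finite_irrCharacter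
  have hS : ({d : ℕ | ∃ χ : IrrCharacter H, charDegree (χ : H → ℂ) = d}).Finite := by
    have : {d : ℕ | ∃ χ : IrrCharacter H, charDegree (χ : H → ℂ) = d} =
        Set.range (fun χ : IrrCharacter H => charDegree (χ : H → ℂ)) := by
      ext d; simp [Set.mem_range]
    rw [this]
    exact Set.finite_range _
  have hne : ({d : ℕ | ∃ χ : IrrCharacter H, charDegree (χ : H → ℂ) = d}).Nonempty :=
    ⟨_, ⟨⟨_, Cfsg.Agent.Lib.Helper80.isIrrCharacter_one⟩, rfl⟩⟩
  obtain ⟨m, hm, hmax⟩ := hS.exists_maximal hne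
  refine ⟨m, hm, ?_⟩
  intro d hd
  by_contra hcon
  push Not at hcon
  have := hmax hd hcon.le
  omega

theorem IsMaxDeg.pos {G : Type u} [Group G] {b : ℕ} (hb : IsMaxDeg G b) : 0 < b := by
  obtain ⟨χ, hχ⟩ := hb.1
  rw [← hχ]
  exact Cfsg.Agent.Lib.Helper80.charDegree_pos_of_isIrr χ.2

/-- the arithmetic of the final step: `b⁴ (β!)² ≤ 3 (b!)²` for `b ≥ 3`, `2β ≤ b`. -/
theorem arith_bound (b β : ℕ) (h3 : 3 ≤ b) (hβ : 2 * β ≤ b) :
    b ^ 4 * (Nat.factorial β) ^ 2 ≤ 3 * (Nat.factorial b) ^ 2 := by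
  rcases Nat.lt_or_ge b 4 with hlt | hge
  · have hb3 : b = 3 := by omega
    subst hb3
    have hβ1 : β ≤ 1 := by omega
    interval_cases β <;> simp [Nat.factorial]
  · have hβ2 : β ≤ b - 2 := by omega
    have hfac : Nat.factorial β ≤ Nat.factorial (b - 2) := Nat.factorial_le hβ2
    obtain ⟨k, rfl⟩ : ∃ k, b = k + 2 := ⟨b - 2, by omega⟩
    have hk : k + 2 - 2 = k := by omega
    rw [hk] at hfac
    have hbf : Nat.factorial (k + 2) = (k + 2) * ((k + 1) * Nat.factorial k) := by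
      rw [Nat.factorial_succ, Nat.factorial_succ]
    rw [hbf]
    have hk2 : 2 ≤ k := by omega
    have h1 : (k + 2) ^ 2 ≤ 3 * (k + 1) ^ 2 := by nlinarith
    have h2 : (Nat.factorial β) ^ 2 ≤ (Nat.factorial k) ^ 2 := Nat.pow_le_pow_left hfac 2
    calc (k + 2) ^ 4 * (Nat.factorial β) ^ 2
        ≤ (k + 2) ^ 4 * (Nat.factorial k) ^ 2 := Nat.mul_le_mul_left _ h2
      _ = (k + 2) ^ 2 * ((k + 2) ^ 2 * (Nat.factorial k) ^ 2) := by ring
      _ ≤ (k + 2) ^ 2 * (3 * (k + 1) ^ 2 * (Nat.factorial k) ^ 2) := by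
          apply Nat.mul_le_mul_left
          exact Nat.mul_le_mul_right _ h1
      _ = 3 * ((k + 2) * ((k + 1) * Nat.factorial k)) ^ 2 := by ring

end Cfsg.Agent.Lib.Helper58.IP26
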