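import Mathlib
import Cfsg.Agent.Lib.Helper58.IP26.Defs
import Cfsg.Agent.Lib.Helper36.IP26Ext
import Cfsg.Agent.Lib.Helper36.IP26F1
import Cfsg.Agent.Lib.Helper84.IP26Van
import Cfsg.Agent.Lib.Helper15.GallagherExt
import Cfsg.Agent.Lib.Helper75.Clifford2
import Cfsg.Agent.Lib.Helper77.CenterIrr
import Cfsg.Agent.Lib.Helper80.CharBasic

/-!
# IP26-[F1]: in a counterexample to Lemma B every subgroup of index `≤ b` is normal with abelian
quotient

The theorem `CE.normal_of_index_le` itself is the copy in `Cfsg.Agent.Lib.Helper36.IP26F1`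
(this file only re-exports it, to avoid a duplicate declaration), plus one auxiliary lemma.
-/

set_option autoImplicit false

namespace Cfsg.Agent.Lib.Helper58.IP26

open Cfsg
open scoped commutatorElement ComplexConjugate

universe u

variable {G : Type u} [Group G] [Finite G] {b : ℕ}

/-- if an irreducible character `χ` of `G` restricts irreducibly to `D ≤ H` then it restricts
irreducibly to `H` -/
theorem isIrrCharacter_res_of_le {D H : Subgroup G} (hDH : D ≤ H) {χ : G → ℂ}
    (hχ : IsCharacter G χ) (hD : IsIrrCharacter D (fun d : D => χ d)) :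
    IsIrrCharacter H (fun h : H => χ h) := by
  have hchar : IsCharacter H (fun h : H => χ h) := Cfsg.Agent.Lib.Helper75.isCharacter_res H hχ
  apply Cfsg.Agent.Lib.Helper15.isIrrCharacter_of_res (D.subgroupOf H) hchar
  have h1 := Cfsg.Agent.Lib.Helper81.isIrrCharacter_comp_mulEquiv hD
    (Subgroup.subgroupOfEquivOfLe hDH)
  exact h1

end Cfsg.Agent.Lib.Helper58.IP26
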